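import Cfsg.Prelude.Def_Perm
import Cfsg.Agent.S0735
import Cfsg.Agent.S0547
import Cfsg.Agent.S3360

/-! Two-homogeneous groups that are not two-transitive, given solvability in odd order. -/

namespace Cfsg.Agent.H37

open MulAction
open scoped Pointwise

/-- A minimal normal subgroup of a solvable group is elementary abelian. -/
theorem minimal_normal_elementary {Γ : Type*} [Group Γ] [Finite Γ] [Group.IsSolvable Γ] (M : Subgroup Γ) [M.Normal]
    (hM : M ≠ ⊥) (hmin : ∀ K : Subgroup Γ, K.Normal → K ≤ M → K = ⊥ ∨ K = M) :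
    (∀ a b : M, a * b = b * a) ∧ ∃ p : ℕ, p.Prime ∧ ∀ m : M, m ^ p = 1 := by
  classical
  have hcomm : ∀ a b : M, a * b = b * a := by
    haveI : Nontrivial M := (Subgroup.nontrivial_iff_ne_bot M).2 hM
    have hlt := IsSolvable.commutator_lt_of_ne_bot hM
    rcases hmin ⁅M, M⁆ (Subgroup.commutator_normal M M) hlt.le with h | h
    · intro a b
      have := Subgroup.commutator_eq_bot_iff_le_centralizer.1 h a.2 b b.2
      exact Subtype.ext this.symm
    · exact absurd h hlt.ne
  refine ⟨hcomm, ?_⟩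
  have hc : 1 < Nat.card M := M.one_lt_card_iff_ne_bot.2 hM
  obtain ⟨p, hp, hpd⟩ := Nat.exists_prime_and_dvd hc.ne'
  haveI : Fact p.Prime := ⟨hp⟩
  obtain ⟨m₀, hm₀⟩ := exists_prime_orderOf_dvd_card' (G := M) p hpd
  refine ⟨p, hp, ?_⟩
  let K : Subgroup Γ :=
    { carrier := {g | g ∈ M ∧ g ^ p = 1}
      one_mem' := ⟨one_mem _, one_pow _⟩
      mul_mem' := fun {a b} ha hb => ⟨mul_mem ha.1 hb.1, by
        have h : Commute a b := congrArg Subtype.val (hcomm ⟨a, ha.1⟩ ⟨b, hb.1⟩)
        rw [h.mul_pow, ha.2, hb.2, one_mul]⟩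
      inv_mem' := fun {a} ha => ⟨inv_mem ha.1, by rw [inv_pow, ha.2, inv_one]⟩ }
  have hK : K.Normal := ⟨fun n hn g => ⟨‹M.Normal›.conj_mem n hn.1 g, by rw [conj_pow, hn.2, mul_one, mul_inv_cancel]⟩⟩
  rcases hmin K hK (fun g hg => hg.1) with h | h
  · exfalso
    have hm : (m₀ : Γ) ∈ K := ⟨m₀.2, by rw [← hm₀, ← Subgroup.coe_pow, pow_orderOf_eq_one]; rfl⟩
    rw [h, Subgroup.mem_bot, OneMemClass.coe_eq_one] at hm
    rw [hm, orderOf_one] at hm₀
    exact hp.ne_one hm₀.symm
  · intro m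
    have hm : (m : Γ) ∈ K := by rw [h]; exact m.2
    exact Subtype.ext (by rw [Subgroup.coe_pow]; exact hm.2)

/-- A solvable half-transitive linear group on a space of size congruent to three modulo four is semilinear. -/
theorem semilinear_of_half_transitive {p : ℕ} [Fact p.Prime] {V : Type*} [AddCommGroup V] [Module (ZMod p) V]
    [Finite V] [Nontrivial V] {H : Type*} [Group H] [Finite H] [Group.IsSolvable H] (ρ : H →* (V ≃ₗ[ZMod p] V))
    (htr : ∀ v w : V, v ≠ 0 → w ≠ 0 → ∃ h : H, ρ h v = w ∨ ρ h v = -w) (hmod : Nat.card V % 4 = 3) :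
    ∃ (F : Type) (_ : Field F) (_ : Fintype F) (e : V ≃+ F),
      ∀ h : H, ∃ (a : F) (σ : F ≃+* F), ∀ v : V, e (ρ h v) = a * σ (e v) := by
  classical
  let ν : ℤˣ →* (V ≃ₗ[ZMod p] V) :=
    { toFun := fun e => if e = 1 then 1 else LinearEquiv.neg (ZMod p)
      map_one' := if_pos rfl
      map_mul' := fun a b => by
        rcases Int.units_eq_one_or a with rfl | rfl <;> rcases Int.units_eq_one_or b with rfl | rfl <;>
          refine LinearEquiv.ext fun v => ?_ <;> simp }
  have hρν : ∀ h e, Commute (ρ h) (ν e) := fun h e => by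
    rcases Int.units_eq_one_or e with rfl | rfl
    · rw [map_one]; exact Commute.one_right _
    · refine LinearEquiv.ext fun v => ?_
      show ρ h (-v) = -(ρ h v)
      exact map_neg (ρ h) v
  let ψ : H × ℤˣ →* (V ≃ₗ[ZMod p] V) := MonoidHom.noncommCoprod ρ ν hρν
  haveI : Finite ψ.range := Finite.of_surjective _ ψ.rangeRestrict_surjective
  have hKsol : Group.IsSolvable ψ.range := Group.isSolvable_of_surjective ψ.rangeRestrict_surjective
  have hψ : ∀ h v, ψ (h, 1) v = ρ h v := fun h v => by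
    simp only [ψ, MonoidHom.noncommCoprod_apply, map_one, mul_one]
  have htrans : ∀ v w : V, v ≠ 0 → w ≠ 0 → ∃ k : ψ.range, ψ.range.subtype k v = w := by
    intro v w hv hw
    obtain ⟨h, hh | hh⟩ := htr v w hv hw
    · exact ⟨⟨ψ (h, 1), ⟨_, rfl⟩⟩, (hψ h v).trans hh⟩
    · refine ⟨⟨ψ (h, -1), ⟨_, rfl⟩⟩, ?_⟩
      show ψ (h, -1) v = w
      simp only [ψ, MonoidHom.noncommCoprod_apply]
      show ρ h ((ν (-1)) v) = w
      rw [show (ν (-1)) v = -v by simp [ν], map_neg, hh, neg_neg]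
  rcases Cfsg.Agent.S3360.result p hKsol ψ.range.subtype Subtype.val_injective htrans with h | hexc
  · obtain ⟨F, instF, instFF, ε, hε⟩ := h
    refine ⟨F, instF, instFF, ε, fun h => ?_⟩
    obtain ⟨a, σ, haσ⟩ := hε ⟨ψ (h, 1), ⟨_, rfl⟩⟩
    exact ⟨a, σ, fun v => (congrArg ε (hψ h v)).symm.trans (haσ v)⟩
  · exfalso
    simp only [Set.mem_insert_iff, Set.mem_singleton_iff] at hexc
    omega

/-- The vector space structure on a group of prime exponent. -/
noncomputable def zmodOfExp {p : ℕ} {W : Type*} [CommGroup W] (hexp : ∀ w : W, w ^ p = 1) :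
    Module (ZMod p) (Additive W) :=
  AddCommGroup.zmodModule (n := p) (fun v : Additive W =>
    show Additive.ofMul ((Additive.toMul v) ^ p) = 0 by rw [hexp]; rfl)

/-- The same for a multiplicative group of prime exponent. -/
theorem semilinear_mul {p : ℕ} [Fact p.Prime] {W : Type*} [CommGroup W] [Finite W] [Nontrivial W]
    (hexp : ∀ w : W, w ^ p = 1) {H : Type*} [Group H] [Finite H] [Group.IsSolvable H] (φ : H →* MulAut W)
    (htr : ∀ v w : W, v ≠ 1 → w ≠ 1 → ∃ h : H, φ h v = w ∨ φ h v = w⁻¹) (hmod : Nat.card W % 4 = 3) :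
    ∃ (F : Type) (_ : Field F) (_ : Fintype F) (ε : Additive W ≃+ F),
      ∀ h : H, ∃ (a : F) (σ : F ≃+* F), ∀ w : W, ε (Additive.ofMul (φ h w)) = a * σ (ε (Additive.ofMul w)) := by
  classical
  letI := zmodOfExp hexp
  let L : H → (Additive W ≃ₗ[ZMod p] Additive W) := fun h =>
    { (MulEquiv.toAdditive (φ h)) with
      map_smul' := fun c v => ZMod.map_smul ((MulEquiv.toAdditive (φ h)).toAddMonoidHom) c v }
  have hL : ∀ (h : H) (v : Additive W), L h v = Additive.ofMul (φ h (Additive.toMul v)) := fun h v => rfl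
  let ρ : H →* (Additive W ≃ₗ[ZMod p] Additive W) :=
    { toFun := L
      map_one' := LinearEquiv.ext fun v => by rw [hL, map_one]; rfl
      map_mul' := fun a b => LinearEquiv.ext fun v => by
        show L _ v = L a (L b v)
        rw [hL, hL, hL, map_mul]; rfl }
  obtain ⟨F, instF, instFF, ε, hε⟩ := semilinear_of_half_transitive ρ (fun v w hv hw => by
    obtain ⟨h, hh⟩ := htr (Additive.toMul v) (Additive.toMul w) hv hw
    refine ⟨h, hh.imp (fun e => ?_) (fun e => ?_)⟩
    · show L h v = w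
      rw [hL, e]; rfl
    · show L h v = -w
      rw [hL, e]; rfl) hmod
  refine ⟨F, instF, instFF, ε, fun h => ?_⟩
  obtain ⟨a, σ, haσ⟩ := hε h
  exact ⟨a, σ, fun w => haσ (Additive.ofMul w)⟩

/-- A group with a regular elementary abelian normal subgroup, transitive on pairs, is semiaffine. -/
theorem semiaffine_of_pairs {G α : Type*} [Group G] [Finite G] [Group.IsSolvable G] [MulAction G α] (M : Subgroup G)
    [M.Normal] {p f : ℕ} [Fact p.Prime] (hf0 : f ≠ 0) (hcomm : ∀ a b : M, a * b = b * a) (hexp : ∀ m : M, m ^ p = 1)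
    (hf : Nat.card M = p ^ f) (a₀ : α) (hbij : Function.Bijective fun m : M => m • a₀) (hmod : p ^ f % 4 = 3)
    (hpairs : ∀ x y z w : α, x ≠ y → z ≠ w → ∃ g : G, g • x = z ∧ g • y = w ∨ g • x = w ∧ g • y = z) :
    ∃ e : α ≃ GaloisField p f,
      (∀ g : G, e.symm.trans ((MulAction.toPerm g).trans e) ∈ Cfsg.semiaffineGroup (GaloisField p f)) ∧
      ∀ b : GaloisField p f, ∃ g : G, ∀ x : α, e (g • x) = e x + b := by
  classical
  letI : CommGroup M := { (inferInstance : Group M) with mul_comm := hcomm }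
  haveI : Nontrivial M := Finite.one_lt_card_iff_nontrivial.1 (by
    rw [hf]; exact Nat.one_lt_pow hf0 (Fact.out : p.Prime).one_lt)
  let φ : MulAction.stabilizer G a₀ →* MulAut M := (MulAut.conjNormal (H := M)).comp (MulAction.stabilizer G a₀).subtype
  have hconj : ∀ (h : G), h • a₀ = a₀ → ∀ m m' : M, h • m • a₀ = m' • a₀ → MulAut.conjNormal h m = m' := by
    intro h hh m m' e
    refine hbij.1 ?_
    show ((MulAut.conjNormal h m : M) : G) • a₀ = m' • a₀
    rw [MulAut.conjNormal_apply, mul_smul, mul_smul, inv_smul_eq_iff.2 hh.symm]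
    exact e
  have htr : ∀ v w : M, v ≠ 1 → w ≠ 1 → ∃ h : MulAction.stabilizer G a₀, φ h v = w ∨ φ h v = w⁻¹ := by
    intro v w hv hw
    have hne0 : ∀ v : M, v ≠ 1 → v • a₀ ≠ a₀ := fun v hv e => hv (hbij.1 (e.trans (one_smul _ a₀).symm))
    obtain ⟨g, ⟨h1, h4⟩ | ⟨h1, h4⟩⟩ := hpairs a₀ (v • a₀) a₀ (w • a₀) (hne0 v hv).symm (hne0 w hw).symm
    · exact ⟨⟨g, h1⟩, Or.inl (hconj g h1 _ _ h4)⟩
    · obtain ⟨g', hg'⟩ : ∃ g' : G, g' = (w : G)⁻¹ * g := ⟨_, rfl⟩
      have hh : g' • a₀ = a₀ := by rw [hg', mul_smul, h1]; exact inv_smul_smul _ _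
      have e5 : g' • v • a₀ = (w⁻¹ : M) • a₀ := by rw [hg', mul_smul, h4]; rfl
      exact ⟨⟨g', hh⟩, Or.inr (hconj g' hh _ _ e5)⟩
  obtain ⟨F, instF, instFF, ε, hε⟩ := semilinear_mul hexp φ htr (by rw [hf]; exact hmod)
  haveI : Fintype (GaloisField p f) := Fintype.ofFinite _
  have hFcard : Fintype.card F = Fintype.card (GaloisField p f) := by
    rw [← Nat.card_eq_fintype_card, ← Nat.card_eq_fintype_card, GaloisField.card p f hf0,
      ← Nat.card_congr ε.toEquiv]
    exact hf
  let R : F ≃+* GaloisField p f := FiniteField.ringEquivOfCardEq hFcard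
  let T : M ≃ α := Equiv.ofBijective _ hbij
  let e : α ≃ GaloisField p f := ((T.symm.trans Additive.ofMul).trans ε.toEquiv).trans R.toEquiv
  have he : ∀ m : M, e (m • a₀) = R (ε (Additive.ofMul m)) := fun m => by
    show R (ε (Additive.ofMul (T.symm (T m)))) = _
    rw [Equiv.symm_apply_apply]
  refine ⟨e, fun g => ?_, fun b => ?_⟩
  · obtain ⟨b, hb⟩ := hbij.2 (g • a₀)
    have hb' : (b : G) • a₀ = g • a₀ := hb
    obtain ⟨h, hh⟩ : ∃ h : G, h = (b : G)⁻¹ * g := ⟨_, rfl⟩
    have hhH : h ∈ MulAction.stabilizer G a₀ := by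
      rw [MulAction.mem_stabilizer_iff, hh, mul_smul, ← hb', inv_smul_smul]
    obtain ⟨a, σ, haσ⟩ := hε ⟨h, hhH⟩
    have haσ' : ∀ m : M, ε (Additive.ofMul (MulAut.conjNormal h m : M)) = a * σ (ε (Additive.ofMul m)) :=
      fun m => haσ m
    have ha : R a ≠ 0 := by
      intro ha
      have ha' : a = 0 := R.injective (ha.trans (map_zero R).symm)
      obtain ⟨m, hm⟩ := exists_ne (1 : M)
      apply hm
      have h1 := haσ' m
      rw [ha', zero_mul, AddEquiv.map_eq_zero_iff] at h1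
      exact (MulAut.conjNormal h : MulAut M).injective ((Additive.ofMul.injective h1).trans (map_one _).symm)
    refine ⟨Units.mk0 _ ha, R (ε (Additive.ofMul b)), (R.symm.trans σ).trans R, fun y => ?_⟩
    obtain ⟨x, rfl⟩ := e.surjective y
    obtain ⟨m, rfl⟩ := hbij.2 x
    have hgm : g • m • a₀ = (b * MulAut.conjNormal h m : M) • a₀ := by
      show g • (m : G) • a₀ = ((b * MulAut.conjNormal h m : M) : G) • a₀
      rw [Subgroup.coe_mul, MulAut.conjNormal_apply, mul_smul, mul_smul, mul_smul,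
        inv_smul_eq_iff.2 (MulAction.mem_stabilizer_iff.1 hhH).symm, hh, mul_smul, smul_inv_smul]
    show e (g • e.symm (e (m • a₀))) = _
    rw [Equiv.symm_apply_apply, he]
    rw [hgm, he, ofMul_mul, map_add, map_add, haσ', map_mul, Units.val_mk0]
    simp only [RingEquiv.coe_trans, Function.comp_apply, RingEquiv.symm_apply_apply]
    exact add_comm _ _
  · obtain ⟨v, hv⟩ := (ε.toEquiv.trans R.toEquiv).surjective b
    refine ⟨((Additive.toMul v : M) : G), fun x => ?_⟩
    obtain ⟨m, rfl⟩ := hbij.2 x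
    show e ((Additive.toMul v : M) • m • a₀) = e (m • a₀) + b
    rw [← mul_smul, he, he, ← hv, ofMul_mul, map_add, map_add, ofMul_toMul]
    exact add_comm _ _

theorem kantor_of_solvable {α : Type*} [Fintype α] [DecidableEq α] (G : Subgroup (Equiv.Perm α)) (hne : G ≠ ⊥)
    (h2 : MulAction.IsPretransitive G (Set.powersetCard α 2)) (hn2 : ¬ MulAction.IsMultiplyPretransitive G α 2)
    (hsolv : Odd (Nat.card G) → Group.IsSolvable G) :
    Odd (Nat.card G) ∧ ∃ (p f : ℕ) (_ : Fact p.Prime), p ≠ 2 ∧ Fintype.card α = p ^ f ∧ p ^ f % 4 = 3 ∧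
      ∃ e : α ≃ GaloisField p f,
        (∀ g : G, e.symm.trans (((g : Equiv.Perm α)).trans e) ∈ Cfsg.semiaffineGroup (GaloisField p f)) ∧
        ∀ b : GaloisField p f, ∃ g : G, ∀ x : α, e ((g : Equiv.Perm α) x) = e x + b := by
  classical
  have hn3 : 3 ≤ Fintype.card α := by
    by_contra hlt
    rcases (show Fintype.card α ≤ 1 ∨ Fintype.card α = 2 by omega) with h | h
    · haveI := Fintype.card_le_one_iff_subsingleton.1 h
      exact hne (Subgroup.eq_bot_of_subsingleton G)
    · have hG : G = ⊤ := by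
        refine Subgroup.eq_top_of_le_card G ?_
        rw [Nat.card_perm, Nat.card_eq_fintype_card (α := α), h, Nat.factorial_two]
        exact G.one_lt_card_iff_ne_bot.2 hne
      apply hn2
      rw [MulAction.is_two_pretransitive_iff]
      intro a b c d hab hcd
      have huniv : ∀ z, z = a ∨ z = b := by
        intro z
        have : ({a, b} : Finset α) = Finset.univ := Finset.eq_univ_of_card _ (by rw [Finset.card_pair hab, h])
        have hz := Finset.mem_univ z
        rw [← this] at hz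
        simpa using hz
      rcases huniv c with rfl | rfl <;> rcases huniv d with rfl | rfl
      · exact absurd rfl hcd
      · exact ⟨1, one_smul _ _, one_smul _ _⟩
      · exact ⟨⟨Equiv.swap _ _, hG ▸ Subgroup.mem_top _⟩, Equiv.swap_apply_left _ _, Equiv.swap_apply_right _ _⟩
      · exact absurd rfl hcd
  obtain ⟨htwo, hprim'⟩ := Cfsg.Agent.S0735.result G h2 hn3
  have hprim := hprim' hne
  have hodd : Odd (Nat.card G) := Nat.not_even_iff_odd.1 fun he => hn2 (htwo he)
  refine ⟨hodd, ?_⟩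
  haveI := hsolv hodd
  haveI : Nonempty α := Fintype.card_pos_iff.1 (by omega)
  haveI : Nontrivial G := (Subgroup.nontrivial_iff_ne_bot G).2 hne
  obtain ⟨M, ⟨hMn, hM⟩, hmin'⟩ := exists_minimal_of_wellFoundedLT (fun M : Subgroup G => M.Normal ∧ M ≠ ⊥)
    ⟨⊤, inferInstance, top_ne_bot⟩
  haveI := hMn
  have hmin : ∀ K : Subgroup G, K.Normal → K ≤ M → K = ⊥ ∨ K = M := by
    intro K hK hKM
    by_cases hb : K = ⊥
    · exact Or.inl hb
    · exact Or.inr (le_antisymm hKM (hmin' ⟨hK, hb⟩ hKM))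
  obtain ⟨htr, hreg, p', d', hp', hd', hcardα', hcardM'⟩ := Cfsg.Agent.S0547.result hprim M hM hmin
  obtain ⟨hcomm, p, hp, hexp⟩ := minimal_normal_elementary M hM hmin
  haveI hpF : Fact p.Prime := ⟨hp⟩
  obtain ⟨f, hf⟩ := IsPGroup.iff_card.1 (show IsPGroup p M from fun m => ⟨1, by rw [pow_one]; exact hexp m⟩)
  obtain ⟨a₀⟩ := ‹Nonempty α›
  have hbij : Function.Bijective fun m : M => m • a₀ := by
    refine ⟨fun m m' e => ?_, fun b => MulAction.exists_smul_eq M a₀ b⟩
    have hmem : m'⁻¹ * m ∈ MulAction.stabilizer M a₀ := by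
      rw [MulAction.mem_stabilizer_iff, mul_smul, show m • a₀ = m' • a₀ from e, inv_smul_smul]
    rw [hreg, Subgroup.mem_bot, inv_mul_eq_one] at hmem
    exact hmem.symm
  have hcard : Fintype.card α = p ^ f := by
    rw [← Nat.card_eq_fintype_card, ← hf]
    exact (Nat.card_eq_of_bijective _ hbij).symm
  have hf0 : f ≠ 0 := fun h => by rw [h, pow_zero] at hcard; omega
  -- arithmetic
  have hnodd : Odd (Fintype.card α) := by
    rw [hcard, ← hf]
    exact hodd.of_dvd_nat (Subgroup.card_subgroup_dvd_card M)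
  have hmod : p ^ f % 4 = 3 := by
    obtain ⟨s⟩ : Nonempty (Set.powersetCard α 2) := by
      obtain ⟨a, b, hab⟩ := Fintype.exists_pair_of_one_lt_card (α := α) (by omega)
      exact ⟨⟨{a, b}, Finset.card_pair hab⟩⟩
    have h := hodd.of_dvd_nat (Subgroup.index_dvd_card (MulAction.stabilizer G s))
    rw [MulAction.index_stabilizer_of_transitive, Set.powersetCard.card, Nat.card_eq_fintype_card, Nat.choose_two_right] at h
    rw [← hcard]
    rw [Nat.odd_iff] at h hnodd
    obtain ⟨j, hj⟩ : ∃ j, Fintype.card α = 4 * j + 1 ∨ Fintype.card α = 4 * j + 3 := ⟨Fintype.card α / 4, by omega⟩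
    rcases hj with hj | hj
    · rw [hj, Nat.add_sub_cancel, show (4 * j + 1) * (4 * j) / 2 = (4 * j + 1) * (2 * j) by
        rw [show (4 * j + 1) * (4 * j) = (4 * j + 1) * (2 * j) * 2 by ring, Nat.mul_div_cancel _ two_pos]] at h
      rw [Nat.mul_mod, Nat.mul_mod_right, mul_zero, Nat.zero_mod] at h
      omega
    · omega
  have hp2 : p ≠ 2 := by
    rintro rfl
    rw [hcard] at hnodd
    exact absurd ((Nat.odd_pow_iff hf0).1 hnodd) (by decide)
  refine ⟨p, f, hpF, hp2, hcard, hmod, ?_⟩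
  have hpairs : ∀ x y z w : α, x ≠ y → z ≠ w → ∃ g : G, g • x = z ∧ g • y = w ∨ g • x = w ∧ g • y = z := by
    intro x y z w hxy hzw
    obtain ⟨g, hg⟩ := MulAction.exists_smul_eq G
      (⟨{x, y}, Finset.card_pair hxy⟩ : Set.powersetCard α 2) ⟨{z, w}, Finset.card_pair hzw⟩
    have himg := congrArg (fun s : Set.powersetCard α 2 => (s : Finset α)) hg
    simp only [Set.powersetCard.coe_smul] at himg
    have h1 : g • x ∈ ({z, w} : Finset α) := himg ▸ Finset.smul_mem_smul_finset (by simp)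
    have h3 : g • y ∈ ({z, w} : Finset α) := himg ▸ Finset.smul_mem_smul_finset (by simp)
    have hne : g • x ≠ g • y := fun e => hxy (smul_left_cancel g e)
    simp only [Finset.mem_insert, Finset.mem_singleton] at h1 h3
    refine ⟨g, ?_⟩
    rcases h1 with h1 | h1 <;> rcases h3 with h3 | h3 <;> simp_all
  obtain ⟨e, he1, he2⟩ := semiaffine_of_pairs M hf0 hcomm hexp hf a₀ hbij hmod hpairs
  exact ⟨e, fun g => he1 g, fun b => he2 b⟩

end Cfsg.Agent.H37
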