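import Mathlib

/-! Minimal normal subgroups of finite groups are direct powers of simple groups. -/

namespace Cfsg.Agent.H37

open Subgroup

variable {N : Type*} [Group N]

/-- In a finite group, a finite independent set of normal subgroups generating everything gives an internal direct product. -/
theorem mulEquiv_pi_of_iSupIndep (s : Finset (Subgroup N)) (hn : ∀ K ∈ s, K.Normal)
    (hind : iSupIndep (fun K : s => (K : Subgroup N))) (hsup : ⨆ K : s, (K : Subgroup N) = ⊤) :
    ∃ e : ((K : s) → (K : Subgroup N)) ≃* N, ∀ (K : s) [DecidableEq s] (x : (K : Subgroup N)),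
      e (Pi.mulSingle K x) = (x : N) := by
  classical
  have hcomm : Pairwise fun K L : s => ∀ x y : N, x ∈ (K : Subgroup N) → y ∈ (L : Subgroup N) → Commute x y := by
    intro K L hKL x y hx hy
    exact Subgroup.commute_of_normal_of_disjoint _ _ (hn K K.2) (hn L L.2) (hind.pairwiseDisjoint hKL) x y hx hy
  have hinj : Function.Injective (Subgroup.noncommPiCoprod hcomm) :=
    Subgroup.injective_noncommPiCoprod_of_iSupIndep hind
  have hsurj : Function.Surjective (Subgroup.noncommPiCoprod hcomm) := by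
    rw [← MonoidHom.range_eq_top, Subgroup.noncommPiCoprod_range, hsup]
  refine ⟨MulEquiv.ofBijective _ ⟨hinj, hsurj⟩, fun K inst x => ?_⟩
  show Subgroup.noncommPiCoprod hcomm (Pi.mulSingle K x) = (x : N)
  convert Subgroup.noncommPiCoprod_mulSingle (hcomm := hcomm) K x

/-- A family of minimal normal subgroups generating a finite group contains an independent generating set. -/
theorem exists_indep_of_minimal_family [Finite N] (F : Set (Subgroup N)) (hn : ∀ K ∈ F, K.Normal)
    (hmin : ∀ K ∈ F, ∀ M : Subgroup N, M.Normal → M ≤ K → M = ⊥ ∨ M = K)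
    (hsup : sSup F = ⊤) :
    ∃ s : Finset (Subgroup N), ↑s ⊆ F ∧ iSupIndep (fun K : s => (K : Subgroup N)) ∧
      ⨆ K : s, (K : Subgroup N) = ⊤ := by
  classical
  obtain ⟨s, ⟨hsF, hind⟩, hmax⟩ :=
    exists_maximal_of_wellFoundedGT (fun s : Finset (Subgroup N) => ↑s ⊆ F ∧ s.SupIndep id)
      ⟨∅, by simp⟩
  refine ⟨s, hsF, ?_, ?_⟩
  · rw [iSupIndep_iff_supIndep_univ]
    exact Finset.SupIndep.attach (f := id) hind
  · have hM : (⨆ K : s, (K : Subgroup N)).Normal :=
      haveI : ∀ K : s, (K : Subgroup N).Normal := fun K => hn K (hsF K.2)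
      Subgroup.iSup_normal _
    rw [eq_top_iff, ← hsup, sSup_le_iff]
    intro L hL
    have hLn := hn L hL
    rcases hmin L hL (L ⊓ ⨆ K : s, (K : Subgroup N)) inferInstance inf_le_left with h | h
    · by_cases hLs : L ∈ s
      · exact le_iSup (fun K : s => (K : Subgroup N)) ⟨L, hLs⟩
      exfalso
      apply hLs
      apply hmax (y := insert L s) _ (Finset.subset_insert _ _) (Finset.mem_insert_self _ _)
      refine ⟨?_, ?_⟩
      · rw [Finset.coe_insert, Set.insert_subset_iff]; exact ⟨hL, hsF⟩
      · rw [Finset.supIndep_iff_disjoint_erase]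
        intro i hi
        rcases Finset.mem_insert.1 hi with rfl | hi
        · rw [Finset.erase_insert hLs, disjoint_iff]
          simpa [iSup_subtype, Finset.sup_eq_iSup] using h
        · have hiL : i ≠ L := fun e => hLs (e ▸ hi)
          rw [Finset.erase_insert_of_ne hiL.symm, Finset.sup_insert]
          have h1 : Disjoint i ((s.erase i).sup id) := (Finset.supIndep_iff_disjoint_erase.1 hind) i hi
          have h2 : Disjoint L (i ⊔ (s.erase i).sup id) := by
            have : i ⊔ (s.erase i).sup id = s.sup id := by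
              conv_rhs => rw [← Finset.insert_erase hi, Finset.sup_insert]
              rfl
            rw [this, disjoint_iff]
            simpa [iSup_subtype, Finset.sup_eq_iSup] using h
          have hA : ((s.erase i).sup id).Normal := by
            rw [Finset.sup_eq_iSup]
            exact Subgroup.biSup_normal (↑(s.erase i) : Set (Subgroup N)) id fun K hK => hn K (hsF (Finset.mem_of_mem_erase hK))
          show Disjoint i (L ⊔ (s.erase i).sup id)
          rw [disjoint_iff, eq_bot_iff]
          intro x hx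
          obtain ⟨hxi, hx2⟩ := Subgroup.mem_inf.1 hx
          obtain ⟨l, hl, a, ha, rfl⟩ := Subgroup.mem_sup_of_normal_right.1 hx2
          have hl' : l ∈ i ⊔ (s.erase i).sup id := by
            have : l = (l * a) * a⁻¹ := by group
            rw [this]
            exact mul_mem (Subgroup.mem_sup_left hxi) (Subgroup.mem_sup_right (inv_mem ha))
          have hl1 : l = 1 := Subgroup.mem_bot.1 (disjoint_iff.1 h2 ▸ Subgroup.mem_inf.2 ⟨hl, hl'⟩)
          subst hl1
          rw [one_mul] at hxi ⊢
          exact (disjoint_iff.1 h1) ▸ Subgroup.mem_inf.2 ⟨hxi, ha⟩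
    · exact h ▸ inf_le_right

/-- A minimal normal subgroup which is a direct factor of an internal direct product is simple. -/
theorem isSimpleGroup_of_directFactor [Finite N] (s : Finset (Subgroup N)) (hn : ∀ K ∈ s, K.Normal)
    (hind : iSupIndep (fun K : s => (K : Subgroup N))) (hsup : ⨆ K : s, (K : Subgroup N) = ⊤)
    (K : Subgroup N) (hK : K ∈ s) (hK0 : K ≠ ⊥)
    (hmin : ∀ M : Subgroup N, M.Normal → M ≤ K → M = ⊥ ∨ M = K) : IsSimpleGroup K := by
  have : Nontrivial K := (Subgroup.nontrivial_iff_ne_bot K).2 hK0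
  refine ⟨fun M hM => ?_⟩
  have hM' : (M.map K.subtype).Normal := by
    have htop : (⊤ : Subgroup N) ≤ Subgroup.normalizer ((M.map K.subtype : Subgroup N) : Set N) := by
      rw [← hsup, iSup_le_iff]
      rintro ⟨L, hL⟩ g hg
      rw [Subgroup.mem_normalizer_iff]
      by_cases hLK : L = K
      · subst hLK
        intro h
        simp only [Subgroup.mem_map]
        constructor
        · rintro ⟨m, hm, rfl⟩
          exact ⟨⟨g, hg⟩ * m * ⟨g, hg⟩⁻¹, hM.conj_mem m hm _, rfl⟩
        · rintro ⟨m, hm, he⟩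
          refine ⟨⟨g, hg⟩⁻¹ * m * ⟨g, hg⟩, by simpa using hM.conj_mem m hm ⟨g, hg⟩⁻¹, ?_⟩
          simp only [map_mul, map_inv, Subgroup.coe_subtype, he]
          group
      · have hd : Disjoint L K := hind.pairwiseDisjoint (show (⟨L, hL⟩ : s) ≠ ⟨K, hK⟩ by simpa using hLK)
        have hc : ∀ y ∈ K, g * y = y * g := fun y hy =>
          Subgroup.commute_of_normal_of_disjoint _ _ (hn L hL) (hn K hK) hd g y hg hy
        intro h
        constructor
        · intro hh
          have hk : h ∈ K := Subgroup.map_subtype_le M hh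
          rwa [hc h hk, mul_inv_cancel_right]
        · intro hh
          have hk : g * h * g⁻¹ ∈ K := Subgroup.map_subtype_le M hh
          have : g * h * g⁻¹ = h := by
            have := hc _ hk
            have e : g * (g * h * g⁻¹) = g * h := by rw [this]; group
            exact mul_left_cancel e
          rwa [this] at hh
    exact Subgroup.normalizer_eq_top_iff.1 (top_le_iff.1 htop)
  rcases hmin _ hM' (Subgroup.map_subtype_le M) with h | h
  · left; exact (Subgroup.map_eq_bot_iff_of_injective _ K.subtype_injective).1 h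
  · right
    apply Subgroup.map_injective K.subtype_injective
    rw [h, ← MonoidHom.range_eq_map, Subgroup.range_subtype]

variable {H : Type*} [Group H]

/-- Structure of a minimal normal subgroup: an internal direct product of simple subgroups, all conjugate in the big group. -/
theorem minimalNormal_structure [Finite H] (N : Subgroup H) [N.Normal] (hN : N ≠ ⊥)
    (hmin : ∀ M : Subgroup H, M.Normal → M ≤ N → M = ⊥ ∨ M = N) :
    ∃ (T : Subgroup N) (s : Finset (Subgroup N)), T ∈ s ∧
      (∀ K ∈ s, K.Normal ∧ IsSimpleGroup K ∧ ∃ h : H, K = T.map (MulAut.conjNormal h : N ≃* N).toMonoidHom) ∧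
      iSupIndep (fun K : s => (K : Subgroup N)) ∧ ⨆ K : s, (K : Subgroup N) = ⊤ := by
  classical
  have : Nontrivial N := (Subgroup.nontrivial_iff_ne_bot N).2 hN
  obtain ⟨T, ⟨hTn, hT0⟩, hTmin⟩ :=
    exists_minimal_of_wellFoundedLT (fun T : Subgroup N => T.Normal ∧ T ≠ ⊥) ⟨⊤, inferInstance, top_ne_bot⟩
  let F : Set (Subgroup N) := Set.range fun h : H => T.map (MulAut.conjNormal h : N ≃* N).toMonoidHom
  have hFn : ∀ K ∈ F, K.Normal := by
    rintro K ⟨h, rfl⟩
    exact hTn.map _ (MulAut.conjNormal h : N ≃* N).surjective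
  have hF0 : ∀ K ∈ F, K ≠ ⊥ := by
    rintro K ⟨h, rfl⟩ e
    exact hT0 ((Subgroup.map_eq_bot_iff_of_injective _ (MulAut.conjNormal h : N ≃* N).injective).1 e)
  have hFmin : ∀ K ∈ F, ∀ M : Subgroup N, M.Normal → M ≤ K → M = ⊥ ∨ M = K := by
    rintro K ⟨h, rfl⟩ M hM hMK
    let φ : N ≃* N := MulAut.conjNormal h
    have hle : M.comap φ.toMonoidHom ≤ T := by
      intro x hx
      obtain ⟨y, hy, hxy⟩ := hMK hx
      have : y = x := φ.injective hxy
      exact this ▸ hy
    by_cases hb : M.comap φ.toMonoidHom = ⊥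
    · left
      rw [← Subgroup.map_comap_eq_self_of_surjective (f := φ.toMonoidHom) φ.surjective M, hb, Subgroup.map_bot]
    · right
      have := hTmin ⟨inferInstance, hb⟩ hle
      rw [← Subgroup.map_comap_eq_self_of_surjective (f := φ.toMonoidHom) φ.surjective M,
        le_antisymm hle this]
  have hsup : sSup F = ⊤ := by
    have hmem : ∀ (g : H) (x : N), x ∈ sSup F → (MulAut.conjNormal g : N ≃* N) x ∈ sSup F := by
      intro g x hx
      have : (sSup F).map (MulAut.conjNormal g : N ≃* N).toMonoidHom ≤ sSup F := by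
        rw [sSup_eq_iSup, Subgroup.map_iSup, iSup_le_iff]
        intro K
        rw [Subgroup.map_iSup, iSup_le_iff]
        rintro ⟨h, rfl⟩
        refine le_trans ?_ (le_iSup₂ (f := fun K (_ : K ∈ F) => K) (T.map (MulAut.conjNormal (g * h) : N ≃* N).toMonoidHom) ⟨g * h, rfl⟩)
        rw [Subgroup.map_map]
        rintro _ ⟨y, hy, rfl⟩
        exact ⟨y, hy, Subtype.ext (by simp [mul_assoc])⟩
      exact this ⟨x, hx, rfl⟩
    have hM : ((sSup F).map N.subtype).Normal := by
      refine ⟨?_⟩
      rintro _ ⟨x, hx, rfl⟩ g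
      exact ⟨_, hmem g x hx, by simp⟩
    rcases hmin _ hM (Subgroup.map_subtype_le _) with h | h
    · exfalso
      rw [Subgroup.map_eq_bot_iff_of_injective _ N.subtype_injective, sSup_eq_bot] at h
      exact hF0 _ ⟨1, rfl⟩ (h _ ⟨1, rfl⟩)
    · apply Subgroup.map_injective N.subtype_injective
      rw [h, ← MonoidHom.range_eq_map, Subgroup.range_subtype]
  obtain ⟨s, hs, hind, hst⟩ := exists_indep_of_minimal_family F hFn hFmin hsup
  have hne : s.Nonempty := by
    by_contra h
    rw [Finset.not_nonempty_iff_eq_empty] at h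
    subst h
    exact top_ne_bot (hst.symm.trans (iSup_of_empty _))
  obtain ⟨T', hT'⟩ := hne
  obtain ⟨a, rfl⟩ := hs hT'
  refine ⟨_, s, hT', fun K hK => ⟨hFn K (hs hK), isSimpleGroup_of_directFactor s
    (fun L hL => hFn L (hs hL)) hind hst K hK (hF0 K (hs hK)) (hFmin K (hs hK)), ?_⟩, hind, hst⟩
  obtain ⟨b, rfl⟩ := hs hK
  refine ⟨b * a⁻¹, ?_⟩
  rw [Subgroup.map_map]
  ext x
  constructor
  · rintro ⟨y, hy, rfl⟩; exact ⟨y, hy, Subtype.ext (by simp [mul_assoc])⟩
  · rintro ⟨y, hy, rfl⟩; exact ⟨y, hy, Subtype.ext (by simp [mul_assoc])⟩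

/-- A minimal normal subgroup of a finite group is isomorphic to `T ^ m` for a simple group `T` living in `Type`. -/
theorem minimalNormal_iso_pow [Finite H] (N : Subgroup H) [N.Normal] (hN : N ≠ ⊥)
    (hmin : ∀ M : Subgroup H, M.Normal → M ≤ N → M = ⊥ ∨ M = N) :
    ∃ (T : Type) (_ : Group T) (m : ℕ), IsSimpleGroup T ∧ 0 < m ∧ Nonempty (N ≃* (Fin m → T)) := by
  classical
  obtain ⟨T, s, hTs, hs, hind, hsup⟩ := minimalNormal_structure N hN hmin
  obtain ⟨n, ⟨f⟩⟩ := Finite.exists_equiv_fin T
  let ρ : T →* Equiv.Perm (Fin n) := f.permCongrHom.toMonoidHom.comp (MulAction.toPermHom T T)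
  have hρ : Function.Injective ρ := f.permCongrHom.injective.comp MulAction.toPerm_injective
  let eT : T ≃* ρ.range := MonoidHom.ofInjective hρ
  obtain ⟨e, -⟩ := mulEquiv_pi_of_iSupIndep s (fun K hK => (hs K hK).1) hind hsup
  have hiso : ∀ K : s, Nonempty ((K : Subgroup N) ≃* ρ.range) := by
    intro K
    obtain ⟨h, hh⟩ := (hs K K.2).2.2
    exact ⟨(MulEquiv.subgroupCongr hh).trans (((MulAut.conjNormal h : N ≃* N).subgroupMap T).symm.trans eT)⟩
  have : IsSimpleGroup T := (hs T hTs).2.1
  have : Nontrivial ρ.range := eT.symm.toEquiv.nontrivial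
  refine ⟨ρ.range, inferInstance, s.card, IsSimpleGroup.isSimpleGroup_of_surjective eT.toMonoidHom eT.surjective,
    Finset.card_pos.2 ⟨T, hTs⟩, ⟨?_⟩⟩
  exact e.symm.trans ((MulEquiv.piCongrRight fun K => (hiso K).some).trans
    (MulEquiv.arrowCongr s.equivFin (MulEquiv.refl _)))

end Cfsg.Agent.H37
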