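import Cfsg.Agent.H29.SmallCentralizer
import Cfsg.Agent.H43.LinearTwist
import Cfsg.Agent.H43.RealTwoBlock
import Cfsg.Agent.H44.ClassTools
import Cfsg.Agent.H25.CharValues
import Cfsg.Agent.S0111

/-!
# An involution with centralizer of order four: the case of a larger Sylow 2-subgroup
-/

set_option autoImplicit false

namespace Cfsg.Agent.H37

open scoped ComplexConjugate
open Subgroup

variable {G : Type*} [Group G]

/-- A normal subgroup of 2-power index with a normal 2-complement passes it up. -/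
theorem hasNormalPComplement_of_normal [Finite G] (P : Sylow 2 G) (K : Subgroup G) [K.Normal]
    (O : Subgroup K) [O.Normal] (hO : Odd (Nat.card O)) (j : ℕ) (hj : O.index * K.index = 2 ^ j) :
    Cfsg.HasNormalPComplement 2 G := by
  classical
  have hcop : (Nat.card O).Coprime (2 ^ j) :=
    ((Nat.coprime_two_right.mpr hO).pow_right j)
  let O' := O.map K.subtype
  have hcard : Nat.card O' = Nat.card O :=
    Nat.card_congr (O.equivMapOfInjective _ K.subtype_injective).toEquiv.symm
  have hmem : ∀ k : K, k ∈ O ↔ k ^ Nat.card O = 1 := by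
    intro k
    refine ⟨fun hk => ?_, fun hk => ?_⟩
    · have h := pow_card_eq_one' (x := (⟨k, hk⟩ : O))
      exact congrArg Subtype.val h
    have h1 : (QuotientGroup.mk' O k) ^ Nat.card O = 1 := by rw [← map_pow, hk, map_one]
    have h2 : orderOf (QuotientGroup.mk' O k) ∣ O.index := orderOf_dvd_natCard _
    have h3 := Nat.eq_one_of_dvd_coprimes hcop (orderOf_dvd_of_pow_eq_one h1)
      (h2.trans (hj ▸ dvd_mul_right _ _))
    exact (QuotientGroup.eq_one_iff k).mp (orderOf_eq_one_iff.mp h3)
  have hn : O'.Normal := by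
    refine ⟨fun u hu g => ?_⟩
    obtain ⟨k, hk, rfl⟩ := hu
    refine ⟨⟨g * k * g⁻¹, (inferInstance : K.Normal).conj_mem (k : G) k.2 g⟩, (hmem _).mpr ?_, rfl⟩
    apply Subtype.ext
    simp only [SubgroupClass.coe_pow, OneMemClass.coe_one, conj_pow]
    rw [← SubgroupClass.coe_pow, (hmem k).mp hk]
    simp
  refine ⟨P, O', hn, ?_⟩
  have hidx : O'.index = 2 ^ j := by
    rw [Subgroup.index_map_subtype, hj]
  have hP2 : ∃ i, Nat.card (P : Subgroup G) = 2 ^ i := IsPGroup.iff_card.mp P.2
  obtain ⟨i, hi⟩ := hP2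
  have h1 : Nat.card (P : Subgroup G) = 2 ^ j := by
    have hG := O'.card_mul_index
    rw [hcard, hidx] at hG
    rw [P.card_eq_multiplicity, ← hG, Nat.factorization_mul Nat.card_pos.ne' (by positivity),
      Nat.Prime.factorization_pow Nat.prime_two, Finsupp.add_apply, Finsupp.single_eq_same,
      Nat.factorization_eq_zero_of_not_dvd hO.not_two_dvd_nat, zero_add]
  refine Subgroup.isComplement'_of_coprime ?_ (by rw [hcard, h1]; exact hcop)
  rw [hcard, h1, ← hcard, ← hidx]
  exact O'.card_mul_index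

/-- The sign character of a subgroup of index two. -/
noncomputable def signOfIndexTwo (K : Subgroup G) (hK : K.index = 2) : G →* ℂˣ := by
  classical
  exact MonoidHom.mk' (fun g => if g ∈ K then 1 else -1) (fun a b => by
    by_cases ha : a ∈ K <;> by_cases hb : b ∈ K <;>
      simp [ha, hb, mul_mem_iff_of_index_two hK])

theorem signOfIndexTwo_of_mem {K : Subgroup G} (hK : K.index = 2) {g : G} (hg : g ∈ K) :
    (signOfIndexTwo K hK g : ℂ) = 1 := by
  simp [signOfIndexTwo, hg]

theorem signOfIndexTwo_of_not_mem {K : Subgroup G} (hK : K.index = 2) {g : G} (hg : g ∉ K) :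
    (signOfIndexTwo K hK g : ℂ) = -1 := by
  simp [signOfIndexTwo, hg]

/-- A character value at an element squaring to one is an integer. -/
theorem exists_int_value_sq_one [Fintype G] (χ : Cfsg.IrrCharacter G) {u : G} (hu : orderOf u = 2) :
    ∃ a : ℤ, χ.1 u = (a : ℂ) := by
  classical
  obtain ⟨n, ρ, hρ, e⟩ := χ.2
  obtain ⟨μ, hμ, hsum⟩ := H25.exists_char_eq_sum_roots ρ u
  rw [hu] at hμ
  refine ⟨∑ i, (if μ i = 1 then 1 else -1 : ℤ), ?_⟩
  rw [← e, hsum, Int.cast_sum]
  refine Finset.sum_congr rfl fun i _ => ?_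
  rcases sq_eq_one_iff.mp (hμ i) with h | h <;> simp [h]

/-- If an involution `x` outside a subgroup `K` of index two has centralizer `{1, x, z, x z}` with
`z ∈ K`, then every conjugate of `z` other than `z` itself inverts an element `r ∉ K` that
commutes with `z` and has order at least three. -/
theorem conj_inverts [Fintype G] (K : Subgroup G) (hK : K.index = 2) {x z r : G} (hx : orderOf x = 2)
    (hxK : x ∉ K) (hz : orderOf z = 2) (hzK : z ∈ K)
    (hC4 : Nat.card (centralizer ({x} : Set G)) = 4)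
    (hCx : ∀ c ∈ centralizer ({x} : Set G), c = 1 ∨ c = x ∨ c = z ∨ c = x * z)
    (hxz : IsConj x (z * x)) (hrK : r ∉ K) (hrz : z * r = r * z) (hr : r * r ≠ 1) :
    ∀ b : G, IsConj z b → b ≠ z → b * r * b⁻¹ = r⁻¹ := by
  classical
  have hKn : K.Normal := normal_of_index_eq_two hK
  let f := signOfIndexTwo K hK
  let one := H26.oneIrr G
  let eps := H43.irrTwist one f
  have heps : ∀ g, eps.1 g = (f g : ℂ) := fun g => by
    rw [H43.irrTwist_apply, H26.oneIrr_val, one_mul]
  have hepsx : eps.1 x = -1 := by rw [heps]; exact signOfIndexTwo_of_not_mem hK hxK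
  have honex : one.1 x = 1 := H26.oneIrr_val x
  have hne1 : one ≠ eps := fun h => by
    have := congrArg (fun χ : Cfsg.IrrCharacter G => χ.1 x) h
    rw [honex, hepsx] at this
    norm_num at this
  have hnorm := H44.sum_norm_sq_eq_card_centralizer x
  rw [hC4] at hnorm
  -- a third character not vanishing at `x`
  obtain ⟨θ, hθ1, hθe, hθx⟩ : ∃ θ : Cfsg.IrrCharacter G, θ ≠ one ∧ θ ≠ eps ∧ θ.1 x ≠ 0 := by
    by_contra hcon
    push Not at hcon
    rw [← Finset.sum_subset (Finset.subset_univ ({one, eps} : Finset (Cfsg.IrrCharacter G)))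
      (fun χ _ hχ => ?_), Finset.sum_pair hne1, honex, hepsx] at hnorm
    · norm_num at hnorm
    · simp only [Finset.mem_insert, Finset.mem_singleton, not_or] at hχ
      simp [hcon χ hχ.1 hχ.2]
  let θ' := H43.irrTwist θ f
  have hθ' : ∀ g, θ'.1 g = θ.1 g * (f g : ℂ) := H43.irrTwist_apply θ f
  have hff : ∀ g, (f g : ℂ) * (f g : ℂ) = 1 := fun g => by
    by_cases hg : g ∈ K
    · rw [show (f g : ℂ) = 1 from signOfIndexTwo_of_mem hK hg, one_mul]
    · rw [show (f g : ℂ) = -1 from signOfIndexTwo_of_not_mem hK hg]; norm_num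
  obtain ⟨a, ha⟩ := exists_int_value_sq_one θ hx
  have hθ'x : θ'.1 x = -(a : ℂ) := by
    rw [hθ', ha, show (f x : ℂ) = -1 from signOfIndexTwo_of_not_mem hK hxK]; ring
  have ha0 : a ≠ 0 := fun h => hθx (by rw [ha, h, Int.cast_zero])
  have hd1 : θ' ≠ one := fun h => hθe (Subtype.ext (funext fun g => by
    have := congrArg (fun χ : Cfsg.IrrCharacter G => χ.1 g) h
    rw [hθ', H26.oneIrr_val] at this
    rw [heps, ← mul_one (θ.1 g), ← hff g, ← mul_assoc, this, one_mul]))
  have hde : θ' ≠ eps := fun h => hθ1 (Subtype.ext (funext fun g => by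
    have := congrArg (fun χ : Cfsg.IrrCharacter G => χ.1 g) h
    rw [hθ', heps] at this
    rw [H26.oneIrr_val]
    exact (mul_eq_right₀ (Units.ne_zero (f g))).mp this))
  have hdθ : θ ≠ θ' := fun h => ha0 (by
    have := congrArg (fun χ : Cfsg.IrrCharacter G => χ.1 x) h
    rw [ha, hθ'x] at this
    have : (a : ℤ) = -a := by exact_mod_cast this
    omega)
  let F : Finset (Cfsg.IrrCharacter G) := {one, eps, θ, θ'}
  have hsumF : ∀ w : Cfsg.IrrCharacter G → ℂ, ∑ χ ∈ F, w χ = w one + w eps + w θ + w θ' := by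
    intro w
    rw [Finset.sum_insert (by simp [hne1, hθ1.symm, hd1.symm]), Finset.sum_insert
      (by simp [hθe.symm, hde.symm]), Finset.sum_pair hdθ]
    ring
  have hsumF' : ∑ χ ∈ F, ‖χ.1 x‖ ^ 2 = 1 + 1 + ((a : ℝ) ^ 2 + (a : ℝ) ^ 2) := by
    rw [Finset.sum_insert (by simp [hne1, hθ1.symm, hd1.symm]), Finset.sum_insert
      (by simp [hθe.symm, hde.symm]), Finset.sum_pair hdθ, honex, hepsx, ha, hθ'x,
      norm_neg, norm_one, norm_neg, Complex.norm_intCast, sq_abs]
    ring
  have hle : ∑ χ ∈ F, ‖χ.1 x‖ ^ 2 ≤ (4 : ℕ) := hnorm ▸ Finset.sum_le_univ_sum_of_nonneg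
    (fun χ => by positivity)
  rw [hsumF'] at hle
  have ha2 : a * a = 1 := by
    have h1 : ((a : ℝ)) ^ 2 ≤ 1 := by push_cast at hle; linarith
    have h2 : (a ^ 2 : ℤ) ≤ 1 := by exact_mod_cast h1
    nlinarith [mul_self_pos.mpr ha0]
  have haC : (a : ℂ) * a = 1 := by exact_mod_cast ha2
  have hzero : ∀ χ : Cfsg.IrrCharacter G, χ ∉ F → χ.1 x = 0 := by
    intro χ hχ
    have h1 := Finset.sum_sdiff (s₁ := F) (Finset.subset_univ F)
      (f := fun χ : Cfsg.IrrCharacter G => ‖χ.1 x‖ ^ 2)
    rw [hnorm, hsumF'] at h1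
    have h2 : ((a : ℝ)) ^ 2 = 1 := by rw [pow_two]; exact_mod_cast ha2
    have h3 : ∑ χ ∈ Finset.univ \ F, ‖χ.1 x‖ ^ 2 = 0 := by push_cast at h1; linarith
    rw [Finset.sum_eq_zero_iff_of_nonneg (fun i _ => by positivity)] at h3
    simpa using h3 χ (Finset.mem_sdiff.mpr ⟨Finset.mem_univ _, hχ⟩)
  -- the values of `θ` outside `K`
  have hX : ∀ g, IsConj x g → θ.1 g = a := fun g hg => by
    rw [← H26.irr_eq_of_isConj θ hg, ha]
  have hXc : ∀ g, g ∉ K → ¬ IsConj x g → θ.1 g = -(a : ℂ) := by
    intro g hg hcg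
    have h1 := H26.column_orthogonality g x
    rw [H26.classIndicator, if_neg (fun h => hcg h.symm), mul_zero,
      ← Finset.sum_subset (Finset.subset_univ F) (fun χ _ hχ => by rw [hzero χ hχ]; simp),
      hsumF, honex, hepsx, ha, hθ'x, H26.oneIrr_val, heps, hθ',
      show (f g : ℂ) = -1 from signOfIndexTwo_of_not_mem hK hg] at h1
    simp only [map_one, map_neg, map_intCast] at h1
    linear_combination (a : ℂ) / 2 * h1 - θ.1 g * haC
  let Z := Finset.univ.filter (fun b : G => ConjClasses.mk b = ConjClasses.mk z)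
  have hZmem : ∀ b, b ∈ Z ↔ IsConj z b := fun b => by
    rw [Finset.mem_filter, ConjClasses.mk_eq_mk_iff_isConj]
    exact ⟨fun h => h.2.symm, fun h => ⟨Finset.mem_univ _, h.symm⟩⟩
  have hZK : ∀ b ∈ Z, b ∈ K := fun b hb => by
    obtain ⟨c, rfl⟩ := isConj_iff.mp ((hZmem b).mp hb)
    exact hKn.conj_mem z hzK c
  let T : G → Finset G := fun g => Z.filter (fun b => IsConj x (b * g))
  have hsum : ∀ g, g ∉ K → ∑ b ∈ Z, θ.1 (b * g) = (a : ℂ) * (2 * (T g).card - Z.card) := by
    intro g hg
    rw [← Finset.sum_filter_add_sum_filter_not Z (fun b => IsConj x (b * g)),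
      Finset.sum_congr rfl (fun b hb => hX _ (Finset.mem_filter.mp hb).2),
      Finset.sum_congr rfl (s₁ := Z.filter (fun b => ¬ IsConj x (b * g))) (fun b hb => hXc _
        (fun h => hg ((mul_mem_cancel_left (hZK b (Finset.mem_filter.mp hb).1)).mp h))
        (Finset.mem_filter.mp hb).2),
      Finset.sum_const, Finset.sum_const, nsmul_eq_mul, nsmul_eq_mul]
    have h1 := Finset.card_filter_add_card_filter_not (s := Z) (fun b => IsConj x (b * g))
    have h2 : ((Z.filter fun b => IsConj x (b * g)).card : ℂ) +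
        (Z.filter fun b => ¬ IsConj x (b * g)).card = Z.card := by exact_mod_cast h1
    linear_combination (-(a : ℂ)) * h2
  -- only `z` takes `x` into its class
  have hTx : T x = {z} := by
    ext b
    rw [Finset.mem_filter, Finset.mem_singleton, hZmem]
    refine ⟨fun ⟨hb, hbx⟩ => ?_, fun h => by subst h; exact ⟨IsConj.refl _, hxz⟩⟩
    have hb2 : orderOf b = 2 := by
      obtain ⟨c, rfl⟩ := isConj_iff.mp hb
      rw [← hz]
      exact orderOf_injective (MulAut.conj c).toMonoidHom (MulAut.conj c).injective z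
    have hbx2 : orderOf (b * x) = 2 := by
      obtain ⟨c, hc⟩ := isConj_iff.mp hbx
      rw [← hc, ← hx]
      exact orderOf_injective (MulAut.conj c).toMonoidHom (MulAut.conj c).injective x
    have hinv : ∀ u : G, orderOf u = 2 → u⁻¹ = u := fun u hu => by
      rw [inv_eq_iff_mul_eq_one, ← pow_two, ← hu, pow_orderOf_eq_one]
    have hbC : b ∈ centralizer ({x} : Set G) := by
      rw [mem_centralizer_singleton_iff]
      calc b * x = (b * x)⁻¹ := (hinv _ hbx2).symm
        _ = x * b := by rw [mul_inv_rev, hinv _ hx, hinv _ hb2]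
    have hbK : b ∈ K := hZK b ((hZmem b).mpr hb)
    rcases hCx b hbC with h | h | h | h
    · rw [h, orderOf_one] at hb2; omega
    · exact absurd (h ▸ hbK) hxK
    · exact h
    · exact absurd ((mul_mem_cancel_right hzK).mp (h ▸ hbK)) hxK
  have e1 := H43.sum_class_mul_translate θ z x
  rw [show (Finset.univ.filter fun b : G => ConjClasses.mk b = ConjClasses.mk z) = Z from rfl,
    hsum x hxK, hTx, Finset.card_singleton, ha] at e1
  have hrX : ¬ IsConj x r := fun h => by
    obtain ⟨c, hc⟩ := isConj_iff.mp h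
    apply hr
    rw [← hc, ← pow_two, conj_pow, ← hx, pow_orderOf_eq_one]
    simp
  have e2 := H43.sum_class_mul_translate θ z r
  rw [show (Finset.univ.filter fun b : G => ConjClasses.mk b = ConjClasses.mk z) = Z from rfl,
    hsum r hrK, hXc r hrK hrX] at e2
  have hTr : ((T r).card : ℂ) + 1 = Z.card := by
    have : (a : ℂ) * (2 * (T r).card - Z.card) + (a : ℂ) * (2 - Z.card) = 0 := by
      push_cast at e1
      linear_combination e1 + e2
    have ha' : (a : ℂ) ≠ 0 := Int.cast_ne_zero.mpr ha0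
    have h2 : (2 : ℂ) * (T r).card - Z.card + (2 - Z.card) = 0 :=
      (mul_eq_zero.mp (show (a : ℂ) * ((2 : ℂ) * (T r).card - Z.card + (2 - Z.card)) = 0 by
        linear_combination this)).resolve_left ha'
    linear_combination h2 / 2
  have hTr' : (T r).card + 1 = Z.card := by exact_mod_cast hTr
  have hzT : z ∉ T r := fun h => hr (by
    obtain ⟨c, hc⟩ := isConj_iff.mp (Finset.mem_filter.mp h).2
    have h2 : (z * r) * (z * r) = 1 := by
      rw [← hc, ← pow_two, conj_pow, ← hx, pow_orderOf_eq_one]; simp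
    calc r * r = (z * z) * (r * r) := by rw [← pow_two z, ← hz, pow_orderOf_eq_one, one_mul]
      _ = z * r * (z * r) := by rw [mul_assoc z r, ← mul_assoc r z r, ← hrz]; simp only [mul_assoc]
      _ = 1 := h2)
  have hTeq : T r = Z.erase z :=
    Finset.eq_of_subset_of_card_le (fun b hb => Finset.mem_erase.mpr
      ⟨fun h => hzT (h ▸ hb), (Finset.mem_filter.mp hb).1⟩)
      (by rw [Finset.card_erase_of_mem ((hZmem z).mpr (IsConj.refl z))]; omega)
  intro b hb hbz
  have hbT : b ∈ T r := hTeq ▸ Finset.mem_erase.mpr ⟨hbz, (hZmem b).mpr hb⟩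
  obtain ⟨c, hc⟩ := isConj_iff.mp (Finset.mem_filter.mp hbT).2
  obtain ⟨e, he⟩ := isConj_iff.mp hb
  have h2 : b * r * (b * r) = 1 := by
    rw [← hc, ← pow_two, conj_pow, ← hx, pow_orderOf_eq_one]; simp
  have hb2 : b * b = 1 := by
    rw [← he, ← pow_two, conj_pow, ← hz, pow_orderOf_eq_one]; simp
  rw [inv_eq_of_mul_eq_one_right hb2]
  exact eq_inv_of_mul_eq_one_left (by rw [mul_assoc]; exact h2 ▸ by simp only [mul_assoc])

/-- If an involution has centralizer of order four and the Sylow 2-subgroups are larger, then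
there is a normal 2-complement or a normal elementary abelian subgroup of order two or four. -/
theorem large_sylow_case [Finite G] (x : G) (hx : orderOf x = 2) (P : Sylow 2 G)
    (hCP : centralizer ({x} : Set G) ≤ (P : Subgroup G))
    (hC4 : Nat.card (centralizer ({x} : Set G)) = 4) (hP : 4 < Nat.card (P : Subgroup G)) :
    Cfsg.HasNormalPComplement 2 G ∨
      ∃ E : Subgroup G, E.Normal ∧ Cfsg.IsElementaryAbelian 2 E ∧
        (Nat.card E = 2 ∨ Nat.card E = 4) := by
  classical
  have : Fintype G := Fintype.ofFinite G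
  have : Fact (Nat.Prime 2) := ⟨Nat.prime_two⟩
  have hxC : x ∈ centralizer ({x} : Set G) := mem_centralizer_singleton_iff.mpr rfl
  have hP2 : IsPGroup 2 ↥(P : Subgroup G) := P.2
  let xs : ↥(P : Subgroup G) := ⟨x, hCP hxC⟩
  have hCs : Nat.card (centralizer ({xs} : Set ↥(P : Subgroup G))) = 4 := by
    have : centralizer ({xs} : Set ↥(P : Subgroup G)) =
        (centralizer ({x} : Set G)).subgroupOf (P : Subgroup G) := by
      ext u
      rw [mem_centralizer_singleton_iff, mem_subgroupOf, mem_centralizer_singleton_iff,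
        Subtype.ext_iff]
      rfl
    rw [this, Nat.card_congr (subgroupOfEquivOfLe hCP).toEquiv, hC4]
  have hna : ¬ IsMulCommutative ↥(P : Subgroup G) := fun h => by
    have : centralizer ({xs} : Set ↥(P : Subgroup G)) = ⊤ :=
      eq_top_iff.mpr fun u _ => mem_centralizer_singleton_iff.mpr (h.is_comm.comm u xs)
    rw [this, card_top] at hCs
    omega
  have hidx := H29.index_commutator_of_centralizer_four hP2 hna xs hCs
  obtain ⟨-, hcen, Cc, hCc, hCi⟩ := H29.card_center_data hP2 hna hidx
  have hCab : ∀ u ∈ Cc, ∀ v ∈ Cc, u * v = v * u := fun u hu v hv =>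
    congrArg Subtype.val ((IsCyclic.isMulCommutative (α := Cc)).is_comm.comm ⟨u, hu⟩ ⟨v, hv⟩)
  have hCn : Cc.Normal := normal_of_index_eq_two hCi
  have hCcard : Nat.card ↥(P : Subgroup G) = Nat.card Cc * 2 := by
    have := Cc.card_mul_index
    rw [hCi] at this
    exact this.symm
  obtain ⟨n, hn⟩ := IsPGroup.iff_card.mp (hP2.to_subgroup Cc)
  have hn2 : 2 ≤ n := by
    by_contra hcon
    have : 2 ^ n ≤ 2 ^ 1 := Nat.pow_le_pow_right (by norm_num) (by omega)
    omega
  have hxs : xs ∉ Cc := fun h => by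
    have h1 : Cc ≤ centralizer ({xs} : Set ↥(P : Subgroup G)) := fun u hu =>
      mem_centralizer_singleton_iff.mpr (hCab u hu xs h)
    have h2 := Subgroup.card_le_of_le h1
    rw [hCs, hn] at h2
    have hn' : n = 2 := le_antisymm
      ((Nat.pow_le_pow_iff_right (by norm_num : 1 < 2)).mp (show 2 ^ n ≤ 2 ^ 2 by omega)) hn2
    have hEq : Cc = centralizer ({xs} : Set ↥(P : Subgroup G)) :=
      Subgroup.eq_of_le_of_card_ge h1 (by rw [hCs, hn, hn']; norm_num)
    -- a cyclic subgroup has one involution, which is central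
    have hxcen : xs ∈ center ↥(P : Subgroup G) := by
      refine mem_center_iff.mpr fun g => ?_
      have h3 : g * xs * g⁻¹ ∈ Cc := hCn.conj_mem xs h g
      have h4 : orderOf (g * xs * g⁻¹) = orderOf xs :=
        orderOf_injective (MulAut.conj g).toMonoidHom (MulAut.conj g).injective xs
      obtain ⟨i, hi⟩ := H29.mem_zpowers_of_mem_cyclic Cc hCc h h3 h4
      have hxs2 : xs * xs = 1 := Subtype.ext (by
        show x * x = 1
        rw [← pow_two, ← hx, pow_orderOf_eq_one])
      have hi' : g * xs * g⁻¹ = 1 ∨ g * xs * g⁻¹ = xs := by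
        change xs ^ i = _ at hi
        rw [← hi]
        rcases Int.even_or_odd i with ⟨k, hk⟩ | ⟨k, hk⟩
        · left
          rw [hk, ← two_mul, zpow_mul, zpow_two, hxs2, one_zpow]
        · right
          rw [hk, zpow_add_one, zpow_mul, zpow_two, hxs2, one_zpow, one_mul]
      rcases hi' with h5 | h5
      · rw [h5, orderOf_one, Subgroup.orderOf_mk, hx] at h4
        omega
      · exact mul_inv_eq_iff_eq_mul.mp h5
    have : centralizer ({xs} : Set ↥(P : Subgroup G)) = ⊤ :=
      eq_top_iff.mpr fun u _ => mem_centralizer_singleton_iff.mpr (mem_center_iff.mp hxcen u)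
    rw [this, card_top] at hCs
    omega
  obtain ⟨-, -, hfix, hinv4⟩ := H29.outside_data hna hcen Cc hCc hCi xs hxs
  obtain ⟨r, hr⟩ := IsCyclic.exists_generator (α := Cc)
  have hror : orderOf (r : ↥(P : Subgroup G)) = 2 ^ n := by
    rw [Subgroup.orderOf_coe, orderOf_eq_card_of_forall_mem_zpowers hr, hn]
  -- an element of order four in the cyclic subgroup, and its square
  let a4 : ↥(P : Subgroup G) := (r : ↥(P : Subgroup G)) ^ (2 ^ (n - 2))
  have ha4C : a4 ∈ Cc := pow_mem r.2 _
  have ha4 : orderOf a4 = 4 := by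
    rw [orderOf_pow_of_dvd (by positivity) (by rw [hror]; exact pow_dvd_pow 2 (Nat.sub_le n 2)),
      hror, Nat.pow_div (Nat.sub_le n 2) (by norm_num), Nat.sub_sub_self hn2]
  have hinv := hinv4 a4 ha4C ha4
  let zs := a4 * a4
  have hzs4 : zs * zs = 1 := by
    have := pow_orderOf_eq_one a4
    rw [ha4] at this
    rw [← this]; simp only [zs, pow_succ, pow_zero, one_mul, mul_assoc]
  have hzs1 : zs ≠ 1 := fun h => by
    have : orderOf a4 ∣ 2 := orderOf_dvd_of_pow_eq_one (by rw [pow_two]; exact h)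
    rw [ha4] at this; norm_num at this
  have hzcomm : xs * zs = zs * xs := by
    have h1 : xs * zs * xs⁻¹ = zs := by
      calc xs * zs * xs⁻¹ = (xs * a4 * xs⁻¹) * (xs * a4 * xs⁻¹) := by simp only [zs]; group
        _ = zs⁻¹ := by rw [hinv]; simp only [zs, mul_inv_rev]
        _ = zs := inv_eq_of_mul_eq_one_right hzs4
    exact mul_inv_eq_iff_eq_mul.mp h1
  have hzcen : zs ∈ center ↥(P : Subgroup G) := hfix zs (mul_mem ha4C ha4C) hzcomm.symm
  have hconj : a4 * xs * a4⁻¹ = zs * xs := by
    have : a4⁻¹ = xs * a4 * xs⁻¹ := hinv.symm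
    calc a4 * xs * a4⁻¹ = a4 * (xs * a4⁻¹ * xs⁻¹) * xs := by group
      _ = a4 * (xs * a4 * xs⁻¹)⁻¹ * xs := by group
      _ = zs * xs := by rw [hinv, inv_inv]
  let z : G := zs
  have hz : orderOf z = 2 := orderOf_eq_prime (by
    rw [pow_two]; exact congrArg Subtype.val hzs4) (fun h => hzs1 (Subtype.ext h))
  have hzP : ∀ u ∈ (P : Subgroup G), u * z = z * u := fun u hu =>
    congrArg Subtype.val (mem_center_iff.mp hzcen ⟨u, hu⟩)
  have hnotconj : ¬ IsConj x z := fun h => by
    have h1 := H26.card_centralizer_eq_of_isConj h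
    rw [hC4] at h1
    have h2 : (P : Subgroup G) ≤ centralizer ({z} : Set G) := fun u hu =>
      mem_centralizer_singleton_iff.mpr (hzP u hu)
    have := Subgroup.card_le_of_le h2
    omega
  have hxz : IsConj x (z * x) := isConj_iff.mpr ⟨(a4 : G), congrArg Subtype.val hconj⟩
  have hzC : z ∈ centralizer ({x} : Set G) :=
    mem_centralizer_singleton_iff.mpr (congrArg Subtype.val hzcomm.symm)
  -- the four elements of the centralizer
  have hCx : ∀ c ∈ centralizer ({x} : Set G), c = 1 ∨ c = x ∨ c = z ∨ c = x * z := by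
    intro c hc
    by_contra hcon
    push Not at hcon
    obtain ⟨h1, h2, h3, h4⟩ := hcon
    have hx1 : x ≠ 1 := fun h => by rw [h, orderOf_one] at hx; omega
    have hz1 : z ≠ 1 := fun h => by rw [h, orderOf_one] at hz; omega
    have hxz' : x ≠ z := fun h => hnotconj (h ▸ IsConj.refl x)
    have hxz1 : x * z ≠ 1 := fun h => hxz' (by
      rw [← mul_one x, ← (show z * z = 1 by rw [← pow_two, ← hz, pow_orderOf_eq_one]), ← mul_assoc,
        h, one_mul])
    have hsub : ({1, x, z, x * z, c} : Finset G) ⊆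
        Finset.univ.filter (fun g => g ∈ centralizer ({x} : Set G)) := by
      intro u hu
      simp only [Finset.mem_insert, Finset.mem_singleton] at hu
      rw [Finset.mem_filter]
      refine ⟨Finset.mem_univ _, ?_⟩
      rcases hu with rfl | rfl | rfl | rfl | rfl
      exacts [one_mem _, hxC, hzC, mul_mem hxC hzC, hc]
    have h5 := Finset.card_le_card hsub
    rw [← Fintype.card_subtype, ← Nat.card_eq_fintype_card, hC4] at h5
    rw [Finset.card_insert_of_notMem, Finset.card_insert_of_notMem, Finset.card_insert_of_notMem,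
      Finset.card_insert_of_notMem, Finset.card_singleton] at h5
    · omega
    · simp only [Finset.mem_singleton]; exact Ne.symm h4
    · simp only [Finset.mem_insert, Finset.mem_singleton, not_or]
      exact ⟨fun h => hx1 (mul_eq_right.mp h.symm), Ne.symm h3⟩
    · simp only [Finset.mem_insert, Finset.mem_singleton, not_or]
      exact ⟨hxz', fun h => hz1 (mul_eq_left.mp h.symm), Ne.symm h2⟩
    · simp only [Finset.mem_insert, Finset.mem_singleton, not_or]
      exact ⟨Ne.symm hx1, Ne.symm hz1, Ne.symm hxz1, Ne.symm h1⟩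
  -- a subgroup of index two avoiding `x`
  let Q : Subgroup G := Cc.map (P : Subgroup G).subtype
  have hQi : Q.relIndex (P : Subgroup G) = 2 := by
    rw [relIndex, subgroupOf, comap_map_eq_self_of_injective (subtype_injective _), hCi]
  have hxQ : x ∉ Q := by
    rintro ⟨u, hu, hux⟩
    exact hxs ((Subtype.ext hux : u = xs) ▸ hu)
  rcases Cfsg.Agent.S0111.result P Q (map_subtype_le Cc) hQi x hx (hCP hxC) hxQ with
    ⟨K, hKn, hKi, hxK⟩ | ⟨g, u, hu, hug⟩
  swap
  · exfalso
    have hu2 : orderOf u = orderOf zs := by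
      rw [← Subgroup.orderOf_coe, show (u : G) = g * x * g⁻¹ from hug, ← Subgroup.orderOf_coe zs,
        show orderOf ((zs : ↥(P : Subgroup G)) : G) = 2 from hz, ← hx]
      exact orderOf_injective (MulAut.conj g).toMonoidHom (MulAut.conj g).injective x
    obtain ⟨i, hi⟩ := H29.mem_zpowers_of_mem_cyclic Cc hCc (mul_mem ha4C ha4C) hu hu2
    have hu' : u = 1 ∨ u = zs := by
      change zs ^ i = u at hi
      rw [← hi]
      rcases Int.even_or_odd i with ⟨k, hk⟩ | ⟨k, hk⟩
      · left
        rw [hk, ← two_mul, zpow_mul, zpow_two, hzs4, one_zpow]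
      · right
        rw [hk, zpow_add_one, zpow_mul, zpow_two, hzs4, one_zpow, one_mul]
    rcases hu' with h | h
    · subst h
      rw [orderOf_one, ← Subgroup.orderOf_coe] at hu2
      exact absurd (hu2.trans hz) (by norm_num)
    · subst h
      exact hnotconj (isConj_iff.mpr ⟨g, hug.symm⟩)
  have := hKn
  have hzK : z ∈ K := by
    by_contra h
    have h1 : z * x ∈ K := by rw [mul_mem_iff_of_index_two hKi]; simp [h, hxK]
    obtain ⟨c, hc⟩ := isConj_iff.mp hxz.symm
    exact hxK (hc ▸ hKn.conj_mem _ h1 c)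
  by_cases hrK : ((r : ↥(P : Subgroup G)) : G) ∈ K
  · -- the Sylow subgroups of `K` are cyclic
    left
    have hQK : Q ≤ K := by
      rintro _ ⟨u, hu, rfl⟩
      obtain ⟨i, hi⟩ := hr ⟨u, hu⟩
      have hui : u = (r : ↥(P : Subgroup G)) ^ i := by
        simpa using (congrArg Subtype.val hi).symm
      rw [hui, map_zpow]
      exact zpow_mem hrK i
    obtain ⟨j, hj⟩ := IsPGroup.iff_card.mp hP2
    have hQcard : Nat.card Q = 2 ^ n := by
      rw [Nat.card_congr (Cc.equivMapOfInjective _ (subtype_injective _)).toEquiv.symm, hn]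
    have hKcard : Nat.card K * 2 = Nat.card G := hKi ▸ K.card_mul_index
    have hQsyl : Nat.card (Q.subgroupOf K) = 2 ^ (Nat.card K).factorization 2 := by
      rw [Nat.card_congr (subgroupOfEquivOfLe hQK).toEquiv, hQcard]
      congr 1
      have h1 := P.card_eq_multiplicity
      rw [hCcard, hn, ← pow_succ, ← hKcard, Nat.factorization_mul Nat.card_pos.ne' two_ne_zero,
        Finsupp.add_apply, Nat.Prime.factorization_self Nat.prime_two] at h1
      exact Nat.succ_injective (Nat.pow_right_injective le_rfl h1)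
    let PK : Sylow 2 K := Sylow.ofCard (Q.subgroupOf K) hQsyl
    have hcycQ : IsCyclic Q := by
      exact isCyclic_of_surjective _ (Cc.equivMapOfInjective _ (subtype_injective _)).surjective
    have hcyc : IsCyclic (PK : Subgroup K) := by
      exact isCyclic_of_surjective _ (subgroupOfEquivOfLe hQK).symm.surjective
    have hmin : (Nat.card K).minFac = 2 := by
      rw [Nat.minFac_eq_two_iff]
      exact ((show orderOf (⟨z, hzK⟩ : K) = 2 by rw [Subgroup.orderOf_mk]; exact hz)) ▸
        orderOf_dvd_natCard _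
    have hle := IsCyclic.normalizer_le_centralizer hmin (P := PK) hcyc
    let O : Subgroup K := (MonoidHom.transferSylow PK hle).ker
    have hO := MonoidHom.ker_transferSylow_isComplement' PK hle
    have hOn : O.Normal := MonoidHom.normal_ker _
    refine hasNormalPComplement_of_normal P K O ?_ ((Nat.card K).factorization 2 + 1) ?_
    · rw [← Nat.not_even_iff_odd, even_iff_two_dvd]
      intro h
      have h1 : 2 ∣ (PK : Subgroup K).index := by
        rw [hO.index_eq_card]; exact h
      exact PK.not_dvd_index h1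
    · rw [hO.symm.index_eq_card, show Nat.card (PK : Subgroup K) = _ from hQsyl, hKi, pow_succ]
  right
  have hrz : z * (r : ↥(P : Subgroup G)) = (r : ↥(P : Subgroup G)) * z :=
    (hzP _ (r : ↥(P : Subgroup G)).2).symm
  have hr2 : ((r : ↥(P : Subgroup G)) : G) * (r : ↥(P : Subgroup G)) ≠ 1 := fun h => by
    have h1 : orderOf (r : ↥(P : Subgroup G)) ∣ 2 :=
      orderOf_dvd_of_pow_eq_one (Subtype.ext (by rw [pow_two]; exact h))
    rw [hror] at h1
    have := Nat.le_of_dvd (by norm_num) h1
    have : 2 ^ 2 ≤ 2 ^ n := Nat.pow_le_pow_right (by norm_num) hn2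
    omega
  have hinvr := conj_inverts K hKi hx hxK hz hzK hC4 hCx hxz hrK hrz hr2
  have hbz : ∀ b, IsConj z b → b * z = z * b := by
    intro b hb
    by_cases hbz : b = z
    · rw [hbz]
    have hpow : z = ((r : ↥(P : Subgroup G)) : G) ^ (2 ^ (n - 2) + 2 ^ (n - 2)) := by
      rw [pow_add]
      simp [z, zs, a4]
    have hzz : z⁻¹ = z := by rw [inv_eq_iff_mul_eq_one, ← pow_two, ← hz, pow_orderOf_eq_one]
    have h1 : b * z * b⁻¹ = z := by
      conv_lhs => rw [hpow, ← conj_pow, hinvr b hb hbz, inv_pow, ← hpow, hzz]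
    exact mul_inv_eq_iff_eq_mul.mp h1
  -- the normal subgroup generated by the conjugates of `z`
  let E := Subgroup.closure {b : G | IsConj z b}
  have hpair : ∀ b c, IsConj z b → IsConj z c → b * c = c * b := by
    intro b c hb hc
    obtain ⟨g, rfl⟩ := isConj_iff.mp hc
    have h1 : IsConj z (g⁻¹ * b * g) :=
      hb.trans (isConj_iff.mpr ⟨g⁻¹, by rw [inv_inv]⟩)
    have h2 := hbz _ h1
    calc b * (g * z * g⁻¹) = g * ((g⁻¹ * b * g) * z) * g⁻¹ := by group
      _ = g * (z * (g⁻¹ * b * g)) * g⁻¹ := by rw [h2]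
      _ = g * z * g⁻¹ * b := by group
  have hEc : IsMulCommutative E := Subgroup.isMulCommutative_closure (fun b hb c hc => hpair b c hb hc)
  have hEn : E.Normal := by
    refine ⟨fun u hu g => ?_⟩
    induction hu using Subgroup.closure_induction with
    | mem v hv => exact Subgroup.subset_closure (IsConj.trans hv (isConj_iff.mpr ⟨g, rfl⟩))
    | one => simp
    | mul u v _ _ hu hv =>
      have := mul_mem hu hv
      rwa [show g * u * g⁻¹ * (g * v * g⁻¹) = g * (u * v) * g⁻¹ by group] at this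
    | inv u _ hu =>
      have := inv_mem hu
      rwa [show (g * u * g⁻¹)⁻¹ = g * u⁻¹ * g⁻¹ by group] at this
  have hEsq : ∀ u ∈ E, u ^ 2 = 1 := by
    intro u hu
    induction hu using Subgroup.closure_induction with
    | mem v hv =>
      obtain ⟨c, rfl⟩ := isConj_iff.mp hv
      rw [conj_pow, ← hz, pow_orderOf_eq_one]; simp
    | one => simp
    | mul u v hu' hv' hu hv =>
      have : Commute u v := congrArg Subtype.val (hEc.is_comm.comm ⟨u, hu'⟩ ⟨v, hv'⟩)
      rw [this.mul_pow, hu, hv, one_mul]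
    | inv u _ hu => rw [inv_pow, hu, inv_one]
  refine ⟨E, hEn, ⟨hEc, hEsq⟩, ?_⟩
  have hE2 : IsPGroup 2 E := fun u => ⟨1, Subtype.ext (by
    show (u : G) ^ 2 ^ 1 = 1
    rw [pow_one]; exact hEsq u u.2)⟩
  have hEP : E ≤ (P : Subgroup G) := by
    have := P.is_maximal' (hE2.to_sup_of_normal_left P.2) le_sup_right
    exact le_sup_left.trans this.le
  obtain ⟨i, hi⟩ := IsPGroup.iff_card.mp hE2
  have hi1 : i ≠ 0 := fun h => by
    rw [h, pow_zero, Subgroup.card_eq_one] at hi
    have : z ∈ (⊥ : Subgroup G) := hi ▸ Subgroup.subset_closure (IsConj.refl z)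
    rw [mem_bot] at this
    rw [this, orderOf_one] at hz; omega
  suffices hi4 : Nat.card E ≤ 4 by
    rw [hi] at hi4 ⊢
    have : i ≤ 2 := (Nat.pow_le_pow_iff_right (by norm_num : 1 < 2)).mp (by norm_num; exact hi4)
    rcases (show i = 1 ∨ i = 2 by omega) with rfl | rfl <;> norm_num
  let E' := E.subgroupOf (P : Subgroup G)
  rw [← Nat.card_congr (subgroupOfEquivOfLe hEP).toEquiv]
  by_cases hEC : E' ≤ Cc
  · have hfin : Nat.card E' ≤ 2 := by
      have hc : IsCyclic E' := isCyclic_of_injective (Subgroup.inclusion hEC)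
        (Subgroup.inclusion_injective hEC)
      have h1 : Monoid.exponent E' ∣ 2 := Monoid.exponent_dvd_of_forall_pow_eq_one fun u =>
        Subtype.ext (Subtype.ext (hEsq _ u.2))
      rw [IsCyclic.exponent_eq_card] at h1
      exact Nat.le_of_dvd (by norm_num) h1
    exact hfin.trans (by norm_num)
  · obtain ⟨u, hu, huC⟩ := SetLike.not_le_iff_exists.mp hEC
    obtain ⟨h4, -⟩ := H29.outside_data hna hcen Cc hCc hCi u huC
    refine h4 ▸ Subgroup.card_le_of_le (fun v hv => mem_centralizer_singleton_iff.mpr (Subtype.ext ?_))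
    show (v : G) * (u : G) = (u : G) * (v : G)
    exact congrArg Subtype.val (hEc.is_comm.comm ⟨(v : G), hv⟩ ⟨(u : G), hu⟩)

end Cfsg.Agent.H37
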