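import Mathlib
import Cfsg.Prelude.Def_LieExceptional

/-! Elementary facts about finite Zassenhaus groups. -/

namespace Cfsg.Agent.H37

variable {G Ω : Type*} [Group G] [MulAction G Ω]

/-- In a Zassenhaus group, an element fixing three distinct points is trivial. -/
theorem eq_one_of_three_fixed (hZ : Cfsg.IsZassenhausGroup G Ω) {g : G} {a b c : Ω} (hab : a ≠ b)
    (hbc : b ≠ c) (hac : a ≠ c) (ha : g • a = a) (hb : g • b = b) (hc : g • c = c) : g = 1 :=
  hZ.2.2.1 g a b c hab hbc hac ha hb hc

/-- In a Zassenhaus group a non-identity element fixes at most two points. -/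
theorem card_fixedBy_le_two (hZ : Cfsg.IsZassenhausGroup G Ω) [Finite Ω] {g : G} (hg : g ≠ 1) :
    Nat.card (MulAction.fixedBy Ω g) ≤ 2 := by
  classical
  rw [Nat.card_coe_set_eq]
  by_contra h
  push Not at h
  obtain ⟨a, ha, b, hb, c, hc, hab, hac, hbc⟩ := (Set.two_lt_ncard (Set.toFinite _)).1 h
  exact hg (eq_one_of_three_fixed hZ hab hbc hac ha hb hc)

/-- The fixed point count of an involution has the parity of the degree. -/
theorem card_fixedBy_mod_two [Fintype Ω] {g : G} (hg : g * g = 1) :
    Nat.card (MulAction.fixedBy Ω g) % 2 = Fintype.card Ω % 2 := by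
  classical
  set f : Equiv.Perm Ω := MulAction.toPerm g with hf
  have hinv : f * f = 1 := by
    ext x
    simp [hf, ← mul_smul, hg]
  have h : f.support.card % 2 = 0 := by
    rw [← f.sum_cycleType]
    have h2 : ∀ n ∈ f.cycleType, n = 2 := by
      intro n hn
      have h1 := Equiv.Perm.dvd_of_mem_cycleType hn
      have h3 : orderOf f ∣ 2 := orderOf_dvd_of_pow_eq_one (by rw [pow_two, hinv])
      have h4 := Equiv.Perm.two_le_of_mem_cycleType hn
      have := Nat.le_of_dvd (by norm_num) (h1.trans h3)
      omega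
    rw [Multiset.eq_replicate_card.2 h2, Multiset.sum_replicate]
    simp
  have hcard : Nat.card (MulAction.fixedBy Ω g) + f.support.card = Fintype.card Ω := by
    rw [Nat.card_eq_fintype_card, Fintype.card_subtype]
    have : f.support = Finset.univ.filter fun x => ¬ g • x = x := by
      ext x; simp [hf]
    rw [this, ← Finset.card_univ]
    exact Finset.card_filter_add_card_filter_not (fun x => g • x = x)
  omega

/-- Two-transitivity of a Zassenhaus group as a pair statement. -/
theorem two_trans (hZ : Cfsg.IsZassenhausGroup G Ω) {a b c d : Ω} (hab : a ≠ b) (hcd : c ≠ d) :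
    ∃ g : G, g • a = c ∧ g • b = d :=
  MulAction.is_two_pretransitive_iff.1 hZ.2.1 hab hcd

/-- In a finite Zassenhaus group every pair of points is swapped by a conjugate of any given involution moving a point. -/
theorem exists_conj_swap (hZ : Cfsg.IsZassenhausGroup G Ω) {t : G} (ht : orderOf t = 2) {c : Ω}
    (hc : t • c ≠ c) {a b : Ω} (hab : a ≠ b) :
    ∃ g : G, orderOf (g * t * g⁻¹) = 2 ∧ (g * t * g⁻¹) • a = b ∧ (g * t * g⁻¹) • b = a ∧ g • c = a ∧ g • (t • c) = b := by
  obtain ⟨g, h1, h2⟩ := two_trans hZ hc.symm hab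
  have htt : t • (t • c) = c := by rw [← mul_smul, ← pow_two, ← ht, pow_orderOf_eq_one, one_smul]
  refine ⟨g, ?_, ?_, ?_, h1, h2⟩
  · rw [← MulAut.conj_apply, MulEquiv.orderOf_eq, ht]
  · rw [mul_smul, mul_smul, ← h1, inv_smul_smul, h2]
  · rw [mul_smul, mul_smul, ← h2, inv_smul_smul, htt, h1]

end Cfsg.Agent.H37
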